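import Groth.Prelude.Def_SGA3x
import Groth.Agent.H13Desc.Flat
import Groth.Agent.H7Flat.ArtinFlattening
import Groth.Agent.H3CAlg.ArtinFlat
import Mathlib

/-!
Essentially free morphisms: flatness, fields and Artinian bases, base change.
-/

set_option autoImplicit false
set_option linter.style.haveILetI false
set_option backward.isDefEq.respectTransparency false

universe u

open CategoryTheory CategoryTheory.Limits AlgebraicGeometry TensorProduct

namespace Groth.Agent.H20EssFree

/-- A surjection from a retract onto a flat module with kernel inside `jF` is injective. -/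
theorem injective_of_cover {A : Type u} [CommRing A] {j : Ideal A} (hj : IsNilpotent j)
    {F P N : Type u} [AddCommGroup F] [Module A F] [AddCommGroup P] [Module A P] [AddCommGroup N] [Module A N]
    [Module.Flat A N] (i : P →ₗ[A] F) (r : F →ₗ[A] P) (hr : r ∘ₗ i = LinearMap.id) (ψ : P →ₗ[A] N)
    (hψ : Function.Surjective ψ) (hk : ∀ p, ψ p = 0 → i p ∈ j • (⊤ : Submodule A F)) :
    Function.Injective ψ := by
  refine H3CAlg.injective_of_surjective_of_lTensor_quot j hj ψ hψ ?_
  rw [injective_iff_map_eq_zero]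
  intro z hz
  obtain ⟨p, rfl⟩ : ∃ p : P, z = Ideal.Quotient.mk j 1 ⊗ₜ[A] p := by
    obtain ⟨p, hp⟩ := Submodule.Quotient.mk_surjective _ (TensorProduct.quotTensorEquivQuotSMul P j z)
    refine ⟨p, (TensorProduct.quotTensorEquivQuotSMul P j).injective ?_⟩
    rw [← hp]
    exact ((TensorProduct.quotTensorEquivQuotSMul_mk_tmul j 1 p).trans (by rw [one_smul])).symm
  rw [LinearMap.lTensor_tmul] at hz
  have h1 := congrArg (TensorProduct.quotTensorEquivQuotSMul N j) hz
  rw [map_zero, TensorProduct.quotTensorEquivQuotSMul_mk_tmul, one_smul, Submodule.Quotient.mk_eq_zero,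
    ← LinearMap.range_eq_top.mpr hψ, ← Submodule.map_top, ← Submodule.map_smul''] at h1
  obtain ⟨p', hp', hpp'⟩ := h1
  have h4 := hk (p - p') (by rw [map_sub, hpp', sub_self])
  have h5 : p - p' ∈ j • (⊤ : Submodule A P) := by
    have h6 := Submodule.smul_top_le_comap_smul_top j r h4
    rw [Submodule.mem_comap] at h6
    rwa [show r (i (p - p')) = p - p' from LinearMap.congr_fun hr (p - p')] at h6
  have h7 : p ∈ j • (⊤ : Submodule A P) := by
    rw [show p = (p - p') + p' from (sub_add_cancel p p').symm]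
    exact add_mem h5 hp'
  refine (TensorProduct.quotTensorEquivQuotSMul P j).injective ?_
  rw [map_zero, TensorProduct.quotTensorEquivQuotSMul_mk_tmul, one_smul, Submodule.Quotient.mk_eq_zero]
  exact h7

/-- A flat module over an Artinian ring is projective. -/
theorem projective_of_flat_artinian {A : Type u} [CommRing A] [IsArtinianRing A] (N : Type u) [AddCommGroup N]
    [Module A N] [Module.Flat A N] : Module.Projective A N := by
  obtain ⟨e, he, hsurj, hk⟩ := H7Flat.ArtinFlattening.exists_cover (A := A) N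
  generalize hπ : Finsupp.linearCombination A (id : N → N) = π at hsurj hk
  have hr : e.rangeRestrict ∘ₗ (LinearMap.range e).subtype = LinearMap.id := by
    apply LinearMap.ext
    rintro ⟨_, x, rfl⟩
    exact Subtype.ext (he x)
  haveI : Module.Projective A (LinearMap.range e) :=
    Module.Projective.of_split (LinearMap.range e).subtype e.rangeRestrict hr
  have hψ : Function.Surjective (π ∘ₗ (LinearMap.range e).subtype) := fun n => by
    obtain ⟨x, hx⟩ := hsurj n
    exact ⟨⟨e x, x, rfl⟩, hx⟩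
  have hinj := injective_of_cover (F := N →₀ A) (P := ↥(LinearMap.range e)) (N := N)
    (IsSemiprimaryRing.isNilpotent : IsNilpotent (Ring.jacobson A))
    (LinearMap.range e).subtype e.rangeRestrict hr (π ∘ₗ (LinearMap.range e).subtype) hψ fun p h => ?_
  swap
  · obtain ⟨x, hx⟩ := p.2
    rw [Submodule.subtype_apply, ← hx]
    exact hk x (by rw [hx]; exact h)
  exact Module.Projective.of_equiv (LinearEquiv.ofBijective _ ⟨hinj, hψ⟩)

/-- A scheme over an Artinian affine base all of whose affine sections are flat is essentially free. -/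
theorem isEssentiallyFree_of_flat_artinian (A : Type u) [CommRing A] [IsArtinianRing A] {X : Scheme.{u}}
    (f : X ⟶ Spec (CommRingCat.of A)) [Flat f] : SGA3x.IsEssentiallyFree f := by
  intro s
  let U : (Spec (CommRingCat.of A)).Opens := ⊤
  haveI : IsAffine U.toScheme := isAffineOpen_top _
  refine ⟨U, trivial, isAffineOpen_top _, U.toScheme, inferInstance, 𝟙 _, inferInstance, inferInstance, fun x => ?_⟩
  obtain ⟨V, hV, hxV, -⟩ := exists_isAffineOpen_mem_and_subset (x := x) (U := ⊤) (Set.mem_univ _)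
  refine ⟨V, hxV, hV, ?_⟩
  haveI : IsAffine V.toScheme := hV
  let φ := V.ι ≫ pullback.snd f (𝟙 U.toScheme ≫ U.ι)
  haveI : Flat φ := inferInstance
  have hφ : φ.appTop.hom.Flat := (HasRingHomProperty.iff_of_isAffine (P := @Flat)).mp inferInstance
  letI := φ.appTop.hom.toAlgebra
  haveI : Module.Flat Γ(U.toScheme, ⊤) Γ(V.toScheme, ⊤) := hφ
  haveI : IsArtinianRing Γ(U.toScheme, ⊤) :=
    RingEquiv.isArtinianRing ((Scheme.ΓSpecIso (CommRingCat.of A)).symm ≪≫
      U.topIso.symm).commRingCatIsoToRingEquiv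
  exact projective_of_flat_artinian _

theorem flat_of_isEssentiallyFree {X S : Scheme.{u}} (f : X ⟶ S) (hf : SGA3x.IsEssentiallyFree f) : Flat f := by
  choose U hsU hU S' hS' g hg hgs hV using hf
  have hcov : iSup U = ⊤ := top_le_iff.mp fun s _ => TopologicalSpace.Opens.mem_iSup.mpr ⟨s, hsU s⟩
  rw [IsZariskiLocalAtTarget.iff_of_iSup_eq_top (P := @Flat) U hcov]
  intro s
  haveI := hS' s
  haveI := hg s
  haveI := hgs s
  haveI : Flat (pullback.snd f (g s ≫ (U s).ι)) := by
    choose V hzV hVa hVp using hV s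
    refine IsZariskiLocalAtSource.of_iSup_eq_top (P := @Flat) V
      (top_le_iff.mp fun z _ => TopologicalSpace.Opens.mem_iSup.mpr ⟨z, hzV z⟩) fun z => ?_
    haveI : IsAffine (V z).toScheme := hVa z
    rw [HasRingHomProperty.iff_of_isAffine (P := @Flat)]
    letI := ((V z).ι ≫ pullback.snd f (g s ≫ (U s).ι)).appTop.hom.toAlgebra
    haveI := hVp z
    exact (inferInstance : Module.Flat Γ(S' s, ⊤) Γ((V z).toScheme, ⊤))
  have hsq := (IsPullback.of_hasPullback (f ∣_ U s) (g s)).paste_horiz (isPullback_morphismRestrict f (U s)).flip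
  haveI : Flat (pullback.fst (f ∣_ U s) (g s)) := inferInstance
  haveI : Surjective (pullback.fst (f ∣_ U s) (g s)) := inferInstance
  haveI : Flat (pullback.fst (f ∣_ U s) (g s) ≫ f ∣_ U s) := by
    rw [pullback.condition]
    haveI : Flat (pullback.snd (f ∣_ U s) (g s)) := by
      rw [← hsq.isoPullback_hom_snd]
      infer_instance
    infer_instance
  haveI : Flat (𝟙 _ ≫ pullback.fst (f ∣_ U s) (g s)) := by rw [Category.id_comp]; infer_instance
  haveI : Surjective (𝟙 _ ≫ pullback.fst (f ∣_ U s) (g s)) := by rw [Category.id_comp]; infer_instance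
  exact H13Desc.flat_of_refinement (pullback.fst (f ∣_ U s) (g s)) (f ∣_ U s) (𝟙 _)

theorem isEssentiallyFree_snd {X S T : Scheme.{u}} (f : X ⟶ S) (q : T ⟶ S) (hf : SGA3x.IsEssentiallyFree f) :
    SGA3x.IsEssentiallyFree (pullback.snd f q) := by
  intro t
  obtain ⟨U, hsU, hU, S', hS', g, hg, hgs, hV⟩ := hf (q t)
  obtain ⟨U', hU', htU', hle'⟩ := exists_isAffineOpen_mem_and_subset (x := t) (U := q ⁻¹ᵁ U) hsU
  haveI : IsAffine U.toScheme := hU
  haveI : IsAffine U'.toScheme := hU'
  haveI := hg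
  haveI := hgs
  let φ : U'.toScheme ⟶ U.toScheme := q.resLE U U' hle'
  let S'' := pullback φ g
  haveI : IsAffine S'' := inferInstance
  haveI : IsAffineHom (pullback.snd φ g) := inferInstance
  refine ⟨U', htU', hU', S'', inferInstance, pullback.fst φ g, inferInstance, inferInstance, fun x => ?_⟩
  have hc : (pullback.fst φ g ≫ U'.ι) ≫ q = pullback.snd φ g ≫ g ≫ U.ι := by
    rw [Category.assoc, ← Scheme.Hom.resLE_comp_ι q hle', pullback.condition_assoc]
  let Q := pullback (pullback.snd f q) (pullback.fst φ g ≫ U'.ι)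
  let m : Q ⟶ pullback f (g ≫ U.ι) :=
    pullback.lift (pullback.fst _ _ ≫ pullback.fst f q) (pullback.snd _ _ ≫ pullback.snd φ g) (by
      rw [Category.assoc, pullback.condition, pullback.condition_assoc, hc, Category.assoc])
  have sq : IsPullback m (pullback.snd (pullback.snd f q) (pullback.fst φ g ≫ U'.ι))
      (pullback.snd f (g ≫ U.ι)) (pullback.snd φ g) := by
    refine IsPullback.of_right ?_ (pullback.lift_snd _ _ _) (IsPullback.of_hasPullback f (g ≫ U.ι))
    rw [pullback.lift_fst, ← hc]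
    exact (IsPullback.of_hasPullback _ _).paste_horiz (IsPullback.of_hasPullback f q)
  obtain ⟨V, hxV, hVa, hVp⟩ := hV (m x)
  haveI : IsAffine V.toScheme := hVa
  haveI : IsAffineHom m := MorphismProperty.of_isPullback sq.flip inferInstance
  have hV' : IsAffineOpen (m ⁻¹ᵁ V) := hVa.preimage m
  refine ⟨m ⁻¹ᵁ V, hxV, hV', ?_⟩
  have sq' := ((isPullback_morphismRestrict m V).paste_vert sq)
  have hpo := isPushout_appTop_of_isPullback sq'
  letI a1 := (V.ι ≫ pullback.snd f (g ≫ U.ι)).appTop.hom.toAlgebra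
  letI a2 := ((m ⁻¹ᵁ V).ι ≫ pullback.snd (pullback.snd f q) (pullback.fst φ g ≫ U'.ι)).appTop.hom.toAlgebra
  letI a3 := (pullback.snd φ g).appTop.hom.toAlgebra
  letI a4 := (m ∣_ V).appTop.hom.toAlgebra
  letI a5 : Algebra Γ(S', ⊤) Γ((m ⁻¹ᵁ V).toScheme, ⊤) :=
    ((V.ι ≫ pullback.snd f (g ≫ U.ι)).appTop ≫ (m ∣_ V).appTop).hom.toAlgebra
  haveI : IsScalarTower Γ(S', ⊤) Γ(V.toScheme, ⊤) Γ((m ⁻¹ᵁ V).toScheme, ⊤) := .of_algebraMap_eq' rfl
  haveI : IsScalarTower Γ(S', ⊤) Γ(S'', ⊤) Γ((m ⁻¹ᵁ V).toScheme, ⊤) :=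
    .of_algebraMap_eq' (congrArg CommRingCat.Hom.hom hpo.w)
  haveI : Algebra.IsPushout Γ(S', ⊤) Γ(S'', ⊤) Γ(V.toScheme, ⊤) Γ((m ⁻¹ᵁ V).toScheme, ⊤) :=
    CommRingCat.isPushout_iff_isPushout.mp hpo.flip
  haveI : Module.Projective Γ(S', ⊤) Γ(V.toScheme, ⊤) := hVp
  exact Module.Projective.of_equiv
    (Algebra.IsPushout.out : IsBaseChange Γ(S'', ⊤)
      (IsScalarTower.toAlgHom Γ(S', ⊤) Γ(V.toScheme, ⊤) Γ((m ⁻¹ᵁ V).toScheme, ⊤)).toLinearMap).equiv

end Groth.Agent.H20EssFree
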